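import Mathlib
import Groth.Prelude.Def_Curv2
import Groth.Agent.RedTensor.Basic

/-!
# Geometric reducedness at a point in terms of the local ring
-/

set_option autoImplicit false
set_option backward.isDefEq.respectTransparency false
set_option linter.style.haveILetI false

universe u

open CategoryTheory CategoryTheory.Limits AlgebraicGeometry TopologicalSpace TensorProduct

attribute [local instance] Curv2.stalkAlgebra

noncomputable section

namespace Groth.Agent.GeomRedPtLib

variable {k : Type u} [Field k] {X : Scheme.{u}} [X.Over (Spec (CommRingCat.of k))]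

theorem fromSpecStalk_over (x : X) :
    X.fromSpecStalk x ≫ (X ↘ (Spec (CommRingCat.of k))) =
      Spec.map (CommRingCat.ofHom (algebraMap k (X.presheaf.stalk x))) := by
  let s := X ↘ (Spec (CommRingCat.of k))
  have h1 : X.toSpecΓ ≫ Spec.map s.appTop = s ≫ (Spec (CommRingCat.of k)).toSpecΓ :=
    (Scheme.toSpecΓ_naturality s).symm
  rw [← SpecMap_ΓSpecIso_hom] at h1
  have h2 : s = X.toSpecΓ ≫ Spec.map s.appTop ≫ Spec.map (Scheme.ΓSpecIso (CommRingCat.of k)).inv := by
    rw [reassoc_of% h1, ← Spec.map_comp, Iso.inv_hom_id, Spec.map_id, Category.comp_id]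
  change X.fromSpecStalk x ≫ s = _
  conv_lhs => rw [h2]
  rw [Scheme.fromSpecStalk_toSpecΓ_assoc, ← Spec.map_comp, ← Spec.map_comp]
  rfl

theorem isReduced_stalk_iff_of_preimmersion {V U : Scheme.{u}} (t : V ⟶ U) [IsPreimmersion t] [Flat t] (v : V) :
    _root_.IsReduced (V.presheaf.stalk v) ↔ _root_.IsReduced (U.presheaf.stalk (t v)) := by
  have hs : Function.Surjective (t.stalkMap v).hom := t.stalkMap_surjective v
  have hi : Function.Injective (t.stalkMap v).hom := by
    algebraize [(t.stalkMap v).hom]
    haveI : IsLocalHom (algebraMap (U.presheaf.stalk (t v)) (V.presheaf.stalk v)) := t.toLRSHom.prop v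
    haveI : Module.Flat (U.presheaf.stalk (t v)) (V.presheaf.stalk v) := Flat.stalkMap t v
    haveI : Module.FaithfullyFlat (U.presheaf.stalk (t v)) (V.presheaf.stalk v) :=
      Module.FaithfullyFlat.of_flat_of_isLocalHom
    exact FaithfulSMul.algebraMap_injective _ _
  let e := RingEquiv.ofBijective (t.stalkMap v).hom ⟨hi, hs⟩
  exact ⟨fun _ => isReduced_of_injective e e.injective, fun _ => isReduced_of_injective e.symm e.symm.injective⟩

variable (k) (X) in
/-- The local ring at `x` tensored with `K`, mapped to the base change. -/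
def tensorPt (K : Type u) [Field K] [Algebra k K] (x : X) :
    Spec (CommRingCat.of (X.presheaf.stalk x ⊗[k] K)) ⟶ Curv2.bc k X K :=
  pullback.lift (Spec.map (CommRingCat.ofHom (Algebra.TensorProduct.includeLeftRingHom)) ≫ X.fromSpecStalk x)
    (Spec.map (CommRingCat.ofHom (Algebra.TensorProduct.includeRight (R := k) (A := X.presheaf.stalk x) (B := K)).toRingHom))
    (by
      rw [Category.assoc, fromSpecStalk_over, ← Spec.map_comp, ← Spec.map_comp, ← CommRingCat.ofHom_comp,
        ← CommRingCat.ofHom_comp]
      congr 2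
      exact RingHom.ext fun r => ((Algebra.TensorProduct.includeLeft (R := k) (S := k) (A := X.presheaf.stalk x) (B := K)).commutes r).trans
        ((Algebra.TensorProduct.includeRight (R := k) (A := X.presheaf.stalk x) (B := K)).commutes r).symm)

theorem isPullback_tensorPt (K : Type u) [Field K] [Algebra k K] (x : X) :
    IsPullback (tensorPt k X K x) (Spec.map (CommRingCat.ofHom (Algebra.TensorProduct.includeLeftRingHom)))
      (Curv2.bcFst k X K) (X.fromSpecStalk x) := by
  refine IsPullback.of_right ?_ (pullback.lift_fst _ _ _)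
    (IsPullback.of_hasPullback (X ↘ Spec (CommRingCat.of k)) _).flip
  rw [tensorPt, pullback.lift_snd, fromSpecStalk_over]
  exact (isPullback_SpecMap_of_isPushout _ _ _ _
    (CommRingCat.isPushout_tensorProduct k (X.presheaf.stalk x) K)).flip

theorem flat_fromSpecStalk' (x : X) : Flat (X.fromSpecStalk x) := by
  obtain ⟨U, hU, hxU, -⟩ := exists_isAffineOpen_mem_and_subset (X := X) (x := x) (U := ⊤) trivial
  rw [← hU.fromSpecStalk_eq_fromSpecStalk hxU, IsAffineOpen.fromSpecStalk]
  letI := TopCat.Presheaf.algebra_section_stalk X.presheaf (⟨x, hxU⟩ : U)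
  haveI := hU.isLocalization_stalk ⟨x, hxU⟩
  haveI : Flat (Spec.map (X.presheaf.germ U x hxU)) := by
    refine (HasRingHomProperty.Spec_iff (P := @Flat)).mpr ?_
    exact IsLocalization.flat (X.presheaf.stalk x) (hU.primeIdealOf ⟨x, hxU⟩).asIdeal.primeCompl
  infer_instance

instance (K : Type u) [Field K] [Algebra k K] (x : X) : IsPreimmersion (tensorPt k X K x) :=
  MorphismProperty.of_isPullback (P := @IsPreimmersion) (isPullback_tensorPt K x).flip inferInstance

instance (K : Type u) [Field K] [Algebra k K] (x : X) : Flat (tensorPt k X K x) :=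
  MorphismProperty.of_isPullback (P := @Flat) (isPullback_tensorPt K x).flip (flat_fromSpecStalk' x)

/-- If `O_x ⊗ K` is reduced, so are the local rings of `X_K` over the generisations of `x`. -/
theorem isReduced_stalk_bc (K : Type u) [Field K] [Algebra k K] (x : X)
    [_root_.IsReduced (X.presheaf.stalk x ⊗[k] K)] (x' : Curv2.bc k X K) (hx : Curv2.bcFst k X K x' ⤳ x) :
    _root_.IsReduced ((Curv2.bc k X K).presheaf.stalk x') := by
  obtain ⟨q, hq⟩ : Curv2.bcFst k X K x' ∈ Set.range (X.fromSpecStalk x) := by
    rw [Scheme.range_fromSpecStalk]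
    exact hx
  obtain ⟨p, hp, -⟩ := Scheme.exists_preimage_of_isPullback (isPullback_tensorPt K x) x' q hq.symm
  subst hp
  haveI : IsReduced (Spec (CommRingCat.of (X.presheaf.stalk x ⊗[k] K))) := inferInstance
  exact (isReduced_stalk_iff_of_preimmersion (tensorPt k X K x) p).mp inferInstance

/-- For an algebraic extension, reduced local rings over `x` make `O_x ⊗ K` reduced. -/
theorem isReduced_tensor_of_stalk_bc (K : Type u) [Field K] [Algebra k K] [Algebra.IsAlgebraic k K] (x : X)
    (h : ∀ x' : Curv2.bc k X K, Curv2.bcFst k X K x' = x → _root_.IsReduced ((Curv2.bc k X K).presheaf.stalk x')) :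
    _root_.IsReduced (X.presheaf.stalk x ⊗[k] K) := by
  let A := X.presheaf.stalk x
  haveI : Algebra.IsIntegral k K := Algebra.IsAlgebraic.isIntegral
  letI : Algebra A (A ⊗[k] K) := Algebra.TensorProduct.leftAlgebra
  haveI : Algebra.IsIntegral A (A ⊗[k] K) := inferInstance
  refine isReduced_ofLocalizationMaximal (A ⊗[k] K) fun P hP => ?_
  haveI : (P.comap (algebraMap A (A ⊗[k] K))).IsMaximal := Ideal.isMaximal_comap_of_isIntegral_of_isMaximal P
  let p : Spec (CommRingCat.of (A ⊗[k] K)) := ⟨P, hP.isPrime⟩
  have hx : Curv2.bcFst k X K (tensorPt k X K x p) = x := by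
    rw [← Scheme.Hom.comp_apply, (isPullback_tensorPt K x).w, Scheme.Hom.comp_apply,
      show (Spec.map (CommRingCat.ofHom (Algebra.TensorProduct.includeLeftRingHom (R := k) (A := A) (B := K)))) p =
        IsLocalRing.closedPoint A from PrimeSpectrum.ext (IsLocalRing.eq_maximalIdeal ‹_›)]
    exact Scheme.fromSpecStalk_closedPoint
  haveI := h _ hx
  haveI : _root_.IsReduced ((Spec (CommRingCat.of (A ⊗[k] K))).presheaf.stalk p) :=
    (isReduced_stalk_iff_of_preimmersion (tensorPt k X K x) p).mpr inferInstance
  letI : Algebra (A ⊗[k] K) ((Spec (CommRingCat.of (A ⊗[k] K))).presheaf.stalk p) :=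
    StructureSheaf.stalkAlgebra _ p
  haveI : IsLocalization.AtPrime ((Spec (CommRingCat.of (A ⊗[k] K))).presheaf.stalk p) P :=
    StructureSheaf.IsLocalization.to_stalk (CommRingCat.of (A ⊗[k] K)) p
  exact isReduced_of_injective
    (IsLocalization.algEquiv P.primeCompl (Localization.AtPrime P)
      ((Spec (CommRingCat.of (A ⊗[k] K))).presheaf.stalk p))
    (AlgEquiv.injective _)

/-- Base change of a geometrically reduced algebra to any field is reduced. -/
theorem isReduced_tensor_field (A : Type u) [CommRing A] [Algebra k A] [Algebra.IsGeometricallyReduced k A]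
    (K : Type u) [Field K] [Algebra k K] : _root_.IsReduced (A ⊗[k] K) := by
  let Kb := AlgebraicClosure K
  let kb := AlgebraicClosure k
  letI : Algebra kb Kb := (IsAlgClosed.lift : kb →ₐ[k] Kb).toRingHom.toAlgebra
  haveI : IsScalarTower k kb Kb := .of_algebraMap_eq fun r => ((IsAlgClosed.lift : kb →ₐ[k] Kb).commutes r).symm
  haveI : _root_.IsReduced (kb ⊗[k] A) := (Algebra.isGeometricallyReduced_field_iff k A).mp ‹_›
  haveI : _root_.IsReduced (Kb ⊗[kb] (kb ⊗[k] A)) := RedTensor.isReduced_tensor_algClosed
  haveI : _root_.IsReduced (Kb ⊗[k] A) :=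
    isReduced_of_injective (Algebra.TensorProduct.cancelBaseChange k kb Kb Kb A).symm
      (Algebra.TensorProduct.cancelBaseChange k kb Kb Kb A).symm.injective
  haveI : _root_.IsReduced (K ⊗[k] A) :=
    isReduced_of_injective (Algebra.TensorProduct.map (IsScalarTower.toAlgHom k K Kb) (AlgHom.id k A))
      (Module.Flat.rTensor_preserves_injective_linearMap (M := A)
        (IsScalarTower.toAlgHom k K Kb).toLinearMap (RingHom.injective _))
  exact isReduced_of_injective (Algebra.TensorProduct.comm k A K) (AlgEquiv.injective _)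

theorem isGeomReducedAt_iff (x : X) :
    Curv2.IsGeomReducedAt k X x ↔ Algebra.IsGeometricallyReduced k (X.presheaf.stalk x) := by
  constructor
  · intro h
    haveI := isReduced_tensor_of_stalk_bc (AlgebraicClosure k) x fun x' hx' => h (AlgebraicClosure k) x' hx'
    rw [Algebra.isGeometricallyReduced_field_iff]
    exact isReduced_of_injective (Algebra.TensorProduct.comm k (AlgebraicClosure k) (X.presheaf.stalk x))
      (AlgEquiv.injective _)
  · intro h K _ _ x' hx'
    haveI := isReduced_tensor_field (k := k) (X.presheaf.stalk x) K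
    exact isReduced_stalk_bc K x x' (specializes_of_eq hx')

theorem geometricallyReduced_iff_forall :
    GeometricallyReduced (X ↘ (Spec (CommRingCat.of k))) ↔ ∀ x : X, Curv2.IsGeomReducedAt k X x := by
  rw [geometricallyReduced_iff, geometrically_iff_of_commRing_of_isClosedUnderIsomorphisms]
  refine ⟨fun h x K _ _ x' _ => ?_, fun h K _ _ => ?_⟩
  · haveI : IsReduced (Curv2.bc k X K) := h K
    infer_instance
  · haveI : ∀ x' : Curv2.bc k X K, _root_.IsReduced ((Curv2.bc k X K).presheaf.stalk x') :=
      fun x' => h (Curv2.bcFst k X K x') K x' rfl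
    exact isReduced_of_isReduced_stalk _

end Groth.Agent.GeomRedPtLib
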