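import Groth.Agent.GeomRedPtLib.Basic

/-!
# Geometric reducedness is tested by finite purely inseparable extensions
-/

set_option autoImplicit false
set_option backward.isDefEq.respectTransparency false
set_option synthInstance.maxHeartbeats 200000
set_option linter.style.haveILetI false

universe u

open TensorProduct

noncomputable section

namespace Groth.Agent.GeomRedPtLib

theorem isReduced_tensor_of_perfect_mid (k P L : Type u) [Field k] [Field P] [PerfectField P] [Field L]
    [Algebra k P] [Algebra P L] [Algebra k L] [IsScalarTower k P L] (A : Type u) [CommRing A] [Algebra k A]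
    [IsReduced (P ⊗[k] A)] : IsReduced (L ⊗[k] A) := by
  haveI : IsReduced (L ⊗[P] (P ⊗[k] A)) := RedTensor.isReduced_tensor P L (P ⊗[k] A)
  exact isReduced_of_injective (Algebra.TensorProduct.cancelBaseChange k P L L A).symm
    (Algebra.TensorProduct.cancelBaseChange k P L L A).symm.injective

theorem isGeometricallyReduced_of_pinsep (k : Type u) [Field k] (A : Type u) [CommRing A] [Algebra k A]
    (h : ∀ (k' : Type u) [Field k'] [Algebra k k'] [FiniteDimensional k k'] [IsPurelyInseparable k k'],
      IsReduced (A ⊗[k] k')) : Algebra.IsGeometricallyReduced k A := by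
  let kb := AlgebraicClosure k
  let P := perfectClosure k kb
  haveI : IsReduced (A ⊗[k] P) := by
    refine IsReduced.tensorProduct_of_flat_of_forall_fg fun B hB => ?_
    haveI : Algebra.FiniteType k B := (Subalgebra.fg_iff_finiteType B).1 hB
    haveI : Algebra.IsIntegral k B := Algebra.IsIntegral.of_injective B.val Subtype.val_injective
    haveI : Module.Finite k B := Algebra.IsIntegral.finite
    letI := (Subalgebra.isField_of_algebraic B).toField
    letI : Algebra B P := B.val.toRingHom.toAlgebra
    haveI : IsScalarTower k B P := .of_algebraMap_eq fun _ => rfl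
    haveI : IsPurelyInseparable k B := IsPurelyInseparable.tower_bot k B P
    exact h B
  haveI : IsReduced (P ⊗[k] A) :=
    isReduced_of_injective (Algebra.TensorProduct.comm k P A) (AlgEquiv.injective _)
  rw [Algebra.isGeometricallyReduced_field_iff]
  exact isReduced_tensor_of_perfect_mid k P kb A

end Groth.Agent.GeomRedPtLib
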