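import Mathlib
import Groth.Agent.GeomRedPtLib.Basic
import Groth.Agent.NormalTensor.Basic
import Groth.Agent.RegLocLib.Basic

/-!
Local rings of a base change as localisations of `O_x ⊗ K`.
-/

set_option autoImplicit false
set_option backward.isDefEq.respectTransparency false
universe u

open CategoryTheory CategoryTheory.Limits AlgebraicGeometry TopologicalSpace TensorProduct

attribute [local instance] Curv2.stalkAlgebra

noncomputable section

namespace Groth.Agent.GeomRedPtLib

variable {k : Type u} [Field k] {X : Scheme.{u}} [X.Over (Spec (CommRingCat.of k))]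

theorem bijective_stalkMap_of_preimmersion {V U : Scheme.{u}} (t : V ⟶ U) [IsPreimmersion t] [Flat t] (v : V) :
    Function.Bijective (t.stalkMap v).hom := by
  refine ⟨?_, t.stalkMap_surjective v⟩
  algebraize [(t.stalkMap v).hom]
  haveI : IsLocalHom (algebraMap (U.presheaf.stalk (t v)) (V.presheaf.stalk v)) := t.toLRSHom.prop v
  haveI : Module.Flat (U.presheaf.stalk (t v)) (V.presheaf.stalk v) := Flat.stalkMap t v
  haveI : Module.FaithfullyFlat (U.presheaf.stalk (t v)) (V.presheaf.stalk v) :=
    Module.FaithfullyFlat.of_flat_of_isLocalHom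
  exact FaithfulSMul.algebraMap_injective _ _

theorem nonempty_stalk_equiv (K : Type u) [Field K] [Algebra k K] (x : X)
    (p : Spec (CommRingCat.of (X.presheaf.stalk x ⊗[k] K))) :
    Nonempty ((Curv2.bc k X K).presheaf.stalk (tensorPt k X K x p) ≃+* Localization.AtPrime p.asIdeal) := by
  letI : Algebra (X.presheaf.stalk x ⊗[k] K) ((Spec (CommRingCat.of (X.presheaf.stalk x ⊗[k] K))).presheaf.stalk p) :=
    StructureSheaf.stalkAlgebra _ p
  haveI : IsLocalization.AtPrime ((Spec (CommRingCat.of (X.presheaf.stalk x ⊗[k] K))).presheaf.stalk p) p.asIdeal :=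
    StructureSheaf.IsLocalization.to_stalk (CommRingCat.of (X.presheaf.stalk x ⊗[k] K)) p
  exact ⟨(RingEquiv.ofBijective _ (bijective_stalkMap_of_preimmersion (tensorPt k X K x) p)).trans
    (IsLocalization.algEquiv p.asIdeal.primeCompl _ (Localization.AtPrime p.asIdeal)).toRingEquiv⟩

theorem exists_tensorPt_eq (K : Type u) [Field K] [Algebra k K] (x : X) (x' : Curv2.bc k X K)
    (hx : Curv2.bcFst k X K x' ⤳ x) : ∃ p, tensorPt k X K x p = x' := by
  obtain ⟨q, hq⟩ : Curv2.bcFst k X K x' ∈ Set.range (X.fromSpecStalk x) := by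
    rw [Scheme.range_fromSpecStalk]
    exact hx
  obtain ⟨p, hp, -⟩ := Scheme.exists_preimage_of_isPullback (isPullback_tensorPt K x) x' q hq.symm
  exact ⟨p, hp⟩

theorem bcFst_tensorPt_maximal (K : Type u) [Field K] [Algebra k K] [Algebra.IsAlgebraic k K] (x : X)
    (P : Ideal (X.presheaf.stalk x ⊗[k] K)) [hP : P.IsMaximal] :
    Curv2.bcFst k X K (tensorPt k X K x ⟨P, hP.isPrime⟩) = x := by
  let A := X.presheaf.stalk x
  haveI : Algebra.IsIntegral k K := Algebra.IsAlgebraic.isIntegral
  letI : Algebra A (A ⊗[k] K) := Algebra.TensorProduct.leftAlgebra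
  haveI : Algebra.IsIntegral A (A ⊗[k] K) := inferInstance
  haveI : (P.comap (algebraMap A (A ⊗[k] K))).IsMaximal := Ideal.isMaximal_comap_of_isIntegral_of_isMaximal P
  rw [← Scheme.Hom.comp_apply, (isPullback_tensorPt K x).w, Scheme.Hom.comp_apply,
    show (Spec.map (CommRingCat.ofHom (Algebra.TensorProduct.includeLeftRingHom (R := k) (A := A) (B := K))))
        (⟨P, hP.isPrime⟩ : Spec (CommRingCat.of (A ⊗[k] K))) =
      IsLocalRing.closedPoint A from PrimeSpectrum.ext (IsLocalRing.eq_maximalIdeal ‹_›)]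
  exact Scheme.fromSpecStalk_closedPoint

/-- Normality of `K ⊗ O_x` gives normal local rings over the generisations of `x`. -/
theorem normal_stalk_bc (K : Type u) [Field K] [Algebra k K] (x : X)
    (h : EGA4.IsNormalRing (K ⊗[k] X.presheaf.stalk x)) (x' : Curv2.bc k X K) (hx : Curv2.bcFst k X K x' ⤳ x) :
    IsDomain ((Curv2.bc k X K).presheaf.stalk x') ∧ IsIntegrallyClosed ((Curv2.bc k X K).presheaf.stalk x') := by
  obtain ⟨p, rfl⟩ := exists_tensorPt_eq K x x' hx
  obtain ⟨e⟩ := nonempty_stalk_equiv K x p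
  obtain ⟨hd, hi⟩ := NormalTensor.isNormalRing_of_ringEquiv
    (Algebra.TensorProduct.comm k K (X.presheaf.stalk x)).toRingEquiv h p.asIdeal
  haveI := hd
  haveI := hi
  haveI := e.toMulEquiv.isDomain _
  exact ⟨inferInstance, IsIntegrallyClosed.of_equiv e.symm⟩

/-- Normal local rings over `x` make `K ⊗ O_x` normal, for algebraic `K`. -/
theorem isNormalRing_tensor_of_stalk_bc (K : Type u) [Field K] [Algebra k K] [Algebra.IsAlgebraic k K] (x : X)
    (h : ∀ x' : Curv2.bc k X K, Curv2.bcFst k X K x' = x →
      IsDomain ((Curv2.bc k X K).presheaf.stalk x') ∧ IsIntegrallyClosed ((Curv2.bc k X K).presheaf.stalk x')) :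
    EGA4.IsNormalRing (K ⊗[k] X.presheaf.stalk x) := by
  refine NormalTensor.isNormalRing_of_ringEquiv (Algebra.TensorProduct.comm k (X.presheaf.stalk x) K).toRingEquiv
    (NormalTensor.isNormalRing_of_forall_localization fun Q hQ => ?_)
  obtain ⟨M, hM, hQM⟩ := Ideal.exists_le_maximal Q hQ.ne_top
  obtain ⟨e⟩ := nonempty_stalk_equiv K x ⟨M, hM.isPrime⟩
  obtain ⟨hd, hi⟩ := h _ (bcFst_tensorPt_maximal K x M)
  haveI := hd
  haveI := hi
  haveI := e.symm.toMulEquiv.isDomain _
  haveI : IsIntegrallyClosed (Localization.AtPrime M) := IsIntegrallyClosed.of_equiv e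
  exact ⟨M.primeCompl, Localization.AtPrime M, inferInstance, inferInstance, inferInstance,
    Set.disjoint_left.2 fun a ha hb => ha (hQM hb), NormalTensor.isNormalRing_of_domain _⟩

/-- Regularity of `K ⊗ O_x` gives regular local rings over the generisations of `x`. -/
theorem regular_stalk_bc (K : Type u) [Field K] [Algebra k K] (x : X)
    [IsRegularRing (K ⊗[k] X.presheaf.stalk x)] (x' : Curv2.bc k X K) (hx : Curv2.bcFst k X K x' ⤳ x) :
    IsRegularLocalRing ((Curv2.bc k X K).presheaf.stalk x') := by
  obtain ⟨p, rfl⟩ := exists_tensorPt_eq K x x' hx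
  obtain ⟨e⟩ := nonempty_stalk_equiv K x p
  haveI : IsRegularRing (X.presheaf.stalk x ⊗[k] K) :=
    IsRegularRing.of_ringEquiv (Algebra.TensorProduct.comm k K (X.presheaf.stalk x)).toRingEquiv
  exact IsRegularLocalRing.of_ringEquiv e.symm

/-- Regular local rings over `x` make `K ⊗ O_x` regular, for algebraic `K`. -/
theorem isRegularRing_tensor_of_stalk_bc (K : Type u) [Field K] [Algebra k K] [Algebra.IsAlgebraic k K] (x : X)
    [IsNoetherianRing (K ⊗[k] X.presheaf.stalk x)]
    (h : ∀ x' : Curv2.bc k X K, Curv2.bcFst k X K x' = x → IsRegularLocalRing ((Curv2.bc k X K).presheaf.stalk x')) :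
    IsRegularRing (K ⊗[k] X.presheaf.stalk x) := by
  let S := X.presheaf.stalk x ⊗[k] K
  haveI : IsNoetherianRing S :=
    isNoetherianRing_of_ringEquiv _ (Algebra.TensorProduct.comm k K (X.presheaf.stalk x)).toRingEquiv
  haveI : IsRegularRing S := by
    rw [isRegularRing_iff]
    intro Q hQ
    obtain ⟨M, hM, hQM⟩ := Ideal.exists_le_maximal Q hQ.ne_top
    obtain ⟨e⟩ := nonempty_stalk_equiv K x ⟨M, hM.isPrime⟩
    haveI := h _ (bcFst_tensorPt_maximal K x M)
    haveI : IsRegularLocalRing (Localization.AtPrime M) := IsRegularLocalRing.of_ringEquiv e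
    haveI := RegLocLib.isRegularRing_of_isRegularLocalRing (Localization.AtPrime M)
    have hdis : Disjoint (M.primeCompl : Set S) (Q : Set S) := Set.disjoint_left.2 fun a ha hb => ha (hQM hb)
    let Q' := Q.map (algebraMap S (Localization.AtPrime M))
    haveI : Q'.IsPrime := IsLocalization.isPrime_of_isPrime_disjoint M.primeCompl (Localization.AtPrime M) Q hQ hdis
    have hc : Q'.comap (algebraMap S (Localization.AtPrime M)) = Q :=
      IsLocalization.under_map_of_isPrime_disjoint M.primeCompl (Localization.AtPrime M) hQ hdis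
    haveI : IsLocalization.AtPrime (Localization.AtPrime Q') (Q'.comap (algebraMap S (Localization.AtPrime M))) :=
      IsLocalization.isLocalization_isLocalization_atPrime_isLocalization M.primeCompl (Localization.AtPrime Q') Q'
    haveI : IsLocalization.AtPrime (Localization.AtPrime Q') Q := by simpa only [hc]
    haveI : IsRegularLocalRing (Localization.AtPrime Q') := IsRegularRing.isRegularLocalRing_localization Q'
    exact IsRegularLocalRing.of_ringEquiv (R := Localization.AtPrime Q')
      (IsLocalization.algEquiv Q.primeCompl (Localization.AtPrime Q') (Localization.AtPrime Q)).toRingEquiv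
  exact IsRegularRing.of_ringEquiv (Algebra.TensorProduct.comm k (X.presheaf.stalk x) K).toRingEquiv

end Groth.Agent.GeomRedPtLib
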