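import Mathlib
import Groth.Agent.GeomRedPtLib.StalkLoc
import Groth.Agent.S2070
import Groth.Agent.S2672
import Groth.Agent.RegDesc.Basic

/-!
Geometric normality and regularity at a point, through purely inseparable extensions.
-/

set_option autoImplicit false
set_option backward.isDefEq.respectTransparency false
universe u

open CategoryTheory CategoryTheory.Limits AlgebraicGeometry TensorProduct

attribute [local instance] Curv2.stalkAlgebra

namespace Groth.Agent.GeomRedPtLib

variable {k : Type u} [Field k] {X : Scheme.{u}} [X.Over (Spec (CommRingCat.of k))]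

theorem isNormalRing_tensor_of_purelyInseparable_at (x : X)
    (h : ∀ (k' : Type u) [Field k'] [Algebra k k'] [FiniteDimensional k k'] [IsPurelyInseparable k k']
      (x' : Curv2.bc k X k'), Curv2.bcFst k X k' x' = x →
        IsDomain ((Curv2.bc k X k').presheaf.stalk x') ∧ IsIntegrallyClosed ((Curv2.bc k X k').presheaf.stalk x'))
    (K : Type u) [Field K] [Algebra k K] : EGA4.IsNormalRing (K ⊗[k] X.presheaf.stalk x) :=
  fun P _ => (Groth.Agent.S2070.result (A := X.presheaf.stalk x)).2
    (fun k' _ _ hf hp => by
      haveI := hf
      haveI := hp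
      haveI : Algebra.IsAlgebraic k k' := Algebra.IsAlgebraic.of_finite k k'
      exact isNormalRing_tensor_of_stalk_bc k' x fun x' hx' => h k' x' hx') K P

theorem isGeometricallyRegular_of_purelyInseparable_at (x : X) [IsNoetherianRing (X.presheaf.stalk x)]
    (h : ∀ (k' : Type u) [Field k'] [Algebra k k'] [FiniteDimensional k k'] [IsPurelyInseparable k k']
      (x' : Curv2.bc k X k'), Curv2.bcFst k X k' x' = x → IsRegularLocalRing ((Curv2.bc k X k').presheaf.stalk x')) :
    CAlg.IsGeometricallyRegular k (X.presheaf.stalk x) :=
  (Groth.Agent.S2672.result k (X.presheaf.stalk x)).1.2 fun k' _ _ hf hp => by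
    haveI := hf
    haveI := hp
    haveI : Algebra.IsAlgebraic k k' := Algebra.IsAlgebraic.of_finite k k'
    haveI := RegDesc.isNoetherianRing_tensor_essFiniteType k k' (X.presheaf.stalk x)
    exact isRegularRing_tensor_of_stalk_bc k' x fun x' hx' => h k' x' hx'

theorem isGeomRegularAt_of_isGeometricallyRegular (x : X) [IsNoetherianRing (X.presheaf.stalk x)]
    (h : CAlg.IsGeometricallyRegular k (X.presheaf.stalk x)) : Curv2.IsGeomRegularAt k X x := by
  intro K _ _ hK x' hx'
  haveI : Algebra.EssFiniteType k K := IntermediateField.fg_top_iff.mp hK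
  haveI := (Groth.Agent.S2672.result k (X.presheaf.stalk x)).2.1 h K inferInstance
  exact regular_stalk_bc K x x' (specializes_of_eq hx')

end Groth.Agent.GeomRedPtLib
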