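import Mathlib
import Groth.Agent.GeomRedPtLib.StalkLoc

/-!
Local rings of a product over a field as localisations of `O_x ⊗ O_y`.
-/

set_option autoImplicit false
set_option backward.isDefEq.respectTransparency false
universe u

open CategoryTheory CategoryTheory.Limits AlgebraicGeometry TopologicalSpace TensorProduct

attribute [local instance] Curv2.stalkAlgebra

namespace Groth.Agent.GeomRedPtLib

theorem exists_prod_stalk_equiv {k : Type u} [Field k] {X Y : Scheme.{u}} [X.Over (Spec (CommRingCat.of k))]
    [Y.Over (Spec (CommRingCat.of k))]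
    (z : ↥(pullback (X ↘ (Spec (CommRingCat.of k))) (Y ↘ (Spec (CommRingCat.of k))))) :
    ∃ (Q : Ideal (X.presheaf.stalk (pullback.fst (X ↘ (Spec (CommRingCat.of k))) (Y ↘ (Spec (CommRingCat.of k))) z) ⊗[k]
        Y.presheaf.stalk (pullback.snd (X ↘ (Spec (CommRingCat.of k))) (Y ↘ (Spec (CommRingCat.of k))) z)))
      (_ : Q.IsPrime),
      Nonempty ((pullback (X ↘ (Spec (CommRingCat.of k))) (Y ↘ (Spec (CommRingCat.of k)))).presheaf.stalk z ≃+*
        Localization.AtPrime Q) := by
  let sX := X ↘ (Spec (CommRingCat.of k))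
  let sY := Y ↘ (Spec (CommRingCat.of k))
  let x := pullback.fst sX sY z
  let y := pullback.snd sX sY z
  let A := X.presheaf.stalk x
  let B := Y.presheaf.stalk y
  let m : pullback (Spec.map (CommRingCat.ofHom (algebraMap k A))) (Spec.map (CommRingCat.ofHom (algebraMap k B))) ⟶
      pullback sX sY :=
    pullback.map _ _ _ _ (X.fromSpecStalk x) (Y.fromSpecStalk y) (𝟙 _)
      ((Category.comp_id _).trans (fromSpecStalk_over x).symm) ((Category.comp_id _).trans (fromSpecStalk_over y).symm)
  haveI : Flat (X.fromSpecStalk x) := flat_fromSpecStalk' x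
  haveI : Flat (Y.fromSpecStalk y) := flat_fromSpecStalk' y
  haveI hm1 : IsPreimmersion m := MorphismProperty.pullbackMap (P := @IsPreimmersion) inferInstance inferInstance (fromSpecStalk_over x).symm (fromSpecStalk_over y).symm
  haveI hm2 : Flat m := MorphismProperty.pullbackMap (P := @Flat) inferInstance inferInstance (fromSpecStalk_over x).symm (fromSpecStalk_over y).symm
  let t : Spec (CommRingCat.of (A ⊗[k] B)) ⟶ pullback sX sY := (pullbackSpecIso k A B).inv ≫ m
  haveI : IsPreimmersion t := by
    show IsPreimmersion ((pullbackSpecIso k A B).inv ≫ m); infer_instance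
  haveI : Flat t := by
    show Flat ((pullbackSpecIso k A B).inv ≫ m); infer_instance
  have hz : z ∈ Set.range m := by
    rw [Scheme.Pullback.range_map]
    refine ⟨?_, ?_⟩
    · show x ∈ Set.range (X.fromSpecStalk x)
      exact ⟨IsLocalRing.closedPoint _, Scheme.fromSpecStalk_closedPoint⟩
    · show y ∈ Set.range (Y.fromSpecStalk y)
      exact ⟨IsLocalRing.closedPoint _, Scheme.fromSpecStalk_closedPoint⟩
  obtain ⟨w, hw⟩ := hz
  let p : Spec (CommRingCat.of (A ⊗[k] B)) := (pullbackSpecIso k A B).hom w
  have hp : t p = z := by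
    show ((pullbackSpecIso k A B).inv ≫ m) ((pullbackSpecIso k A B).hom w) = z
    rw [← Scheme.Hom.comp_apply, Iso.hom_inv_id_assoc, hw]
  letI : Algebra (A ⊗[k] B) ((Spec (CommRingCat.of (A ⊗[k] B))).presheaf.stalk p) := StructureSheaf.stalkAlgebra _ p
  haveI : IsLocalization.AtPrime ((Spec (CommRingCat.of (A ⊗[k] B))).presheaf.stalk p) p.asIdeal :=
    StructureSheaf.IsLocalization.to_stalk (CommRingCat.of (A ⊗[k] B)) p
  refine ⟨p.asIdeal, p.isPrime, ⟨?_⟩⟩
  exact ((eqToIso (congrArg (fun w => (pullback sX sY).presheaf.stalk w) hp.symm)).commRingCatIsoToRingEquiv.trans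
    (RingEquiv.ofBijective _ (bijective_stalkMap_of_preimmersion t p))).trans
    (IsLocalization.algEquiv p.asIdeal.primeCompl _ (Localization.AtPrime p.asIdeal)).toRingEquiv

end Groth.Agent.GeomRedPtLib
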