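import Mathlib
import Groth.Agent.GeomRedPtLib.PInsep
import Groth.Agent.S2451
import Groth.Agent.S2471
import Groth.Agent.S4512
import Groth.Agent.RegLocal.Basic

/-!
Regular local algebras with separable residue field are geometrically regular and geometrically
reduced; dominant morphisms of integral schemes are injective on local rings.
-/

set_option autoImplicit false
set_option backward.isDefEq.respectTransparency false
universe u

open TensorProduct IsLocalRing

namespace Groth.Agent.GeomRedPtLib

theorem map_map_kaehler (k A K : Type u) [CommRing k] [CommRing A] [CommRing K] [Algebra k A] [Algebra k K]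
    [Algebra A K] [IsScalarTower k A K] (n : Ω[k⁄ℤ]) :
    KaehlerDifferential.map ℤ ℤ A K (KaehlerDifferential.map ℤ ℤ k A n) = KaehlerDifferential.map ℤ ℤ k K n := by
  have h : (KaehlerDifferential.map ℤ ℤ A K).restrictScalars k ∘ₗ KaehlerDifferential.map ℤ ℤ k A =
      KaehlerDifferential.map ℤ ℤ k K := by
    apply Derivation.liftKaehlerDifferential_unique
    ext x
    simp [← IsScalarTower.algebraMap_apply]
  exact LinearMap.congr_fun h n

theorem injective_mapBaseChange_of_formallySmooth (k K : Type u) [CommRing k] [CommRing K] [Algebra k K]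
    [Algebra.FormallySmooth k K] : Function.Injective (KaehlerDifferential.mapBaseChange ℤ k K) := by
  haveI : Subsingleton (Algebra.H1Cotangent k K) := Algebra.FormallySmooth.subsingleton_h1Cotangent
  rw [injective_iff_map_eq_zero]
  intro x hx
  obtain ⟨y, rfl⟩ := (Algebra.H1Cotangent.exact_δ_mapBaseChange ℤ k K x).mp hx
  rw [Subsingleton.elim y 0, map_zero]

theorem isGeometricallyRegular_of_separable_residue {k A : Type u} [Field k] [CommRing A] [IsRegularLocalRing A]
    [Algebra k A] [hK : Algebra.IsGeometricallyReduced k (ResidueField A)] : CAlg.IsGeometricallyRegular k A := by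
  refine (Groth.Agent.S4512.result ((Groth.Agent.S2471.result (k := k) (A := A)).2 ⟨inferInstance, ?_⟩)).1
  haveI : Algebra.FormallySmooth k (ResidueField A) := Groth.Agent.S2451.result.2 hK
  let K := ResidueField A
  let Ω := Ω[k⁄ℤ]
  let e := TensorProduct.AlgebraTensorModule.cancelBaseChange k A A K Ω
  have key : ∀ z : K ⊗[A] (A ⊗[k] Ω),
      KaehlerDifferential.mapBaseChange ℤ A K ((KaehlerDifferential.mapBaseChange ℤ k A).lTensor K z) =
        KaehlerDifferential.mapBaseChange ℤ k K (e z) := by
    intro z
    induction z using TensorProduct.induction_on with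
    | zero => simp
    | add a b ha hb => simp only [map_add, ha, hb]
    | tmul c w =>
      induction w using TensorProduct.induction_on with
      | zero => simp
      | add a b ha hb => simp only [TensorProduct.tmul_add, map_add, ha, hb]
      | tmul a m =>
        rw [LinearMap.lTensor_tmul, TensorProduct.AlgebraTensorModule.cancelBaseChange_tmul,
          KaehlerDifferential.mapBaseChange_tmul, KaehlerDifferential.mapBaseChange_tmul,
          KaehlerDifferential.mapBaseChange_tmul]
        rw [map_smul, map_map_kaehler k A K m]
        rw [← IsScalarTower.algebraMap_smul K a, smul_smul, mul_comm, ← Algebra.smul_def]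
  intro z z' h
  apply e.injective
  apply injective_mapBaseChange_of_formallySmooth k K
  rw [← key, ← key, h]

theorem isReduced_of_isRegularRing (R : Type u) [CommRing R] [IsRegularRing R] : IsReduced R := by
  refine isReduced_ofLocalizationMaximal R fun m hm => ?_
  haveI := IsRegularRing.isRegularLocalRing_localization m
  haveI := RegLocal.isDomain (R := Localization.AtPrime m)
  infer_instance

theorem isGeometricallyReduced_of_isGeometricallyRegular {k A : Type u} [Field k] [CommRing A] [Algebra k A]
    (h : CAlg.IsGeometricallyRegular k A) : Algebra.IsGeometricallyReduced k A :=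
  isGeometricallyReduced_of_pinsep k A fun k' _ _ _ _ => by
    haveI := h k' inferInstance
    haveI := isReduced_of_isRegularRing (k' ⊗[k] A)
    exact isReduced_of_injective (Algebra.TensorProduct.comm k A k') (AlgEquiv.injective _)

open CategoryTheory AlgebraicGeometry in
theorem stalkMap_injective_of_dominant {N X : Scheme.{u}} [IsIntegral N] [IsIntegral X] (f : N ⟶ X) [IsDominant f]
    (y : N) : Function.Injective (f.stalkMap y).hom := by
  rw [injective_iff_map_eq_zero]
  intro a ha
  obtain ⟨U, hxU, a, rfl⟩ := TopCat.Presheaf.germ_exist X.presheaf a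
  haveI : Nonempty U := ⟨⟨_, hxU⟩⟩
  have h1 : (N.presheaf.germ (f ⁻¹ᵁ U) y hxU) (f.app U a) = 0 := by
    rw [← Scheme.Hom.germ_stalkMap_apply f U y hxU a]; exact ha
  have h2 : f.app U a = 0 := germ_injective_of_isIntegral N y hxU (h1.trans (map_zero _).symm)
  have hb : f ⁻¹ᵁ X.basicOpen a = ⊥ := by rw [Scheme.preimage_basicOpen, h2, Scheme.basicOpen_zero]
  have hbo : X.basicOpen a = ⊥ := by
    by_contra hne
    obtain ⟨x, hx⟩ := (TopologicalSpace.Opens.ne_bot_iff_nonempty _).1 hne
    obtain ⟨z, hz⟩ := f.denseRange.exists_mem_open (X.basicOpen a).isOpen ⟨x, hx⟩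
    exact (hb ▸ (show z ∈ f ⁻¹ᵁ X.basicOpen a from hz) : z ∈ (⊥ : N.Opens))
  rw [(basicOpen_eq_bot_iff a).1 hbo, map_zero]

end Groth.Agent.GeomRedPtLib
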