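import Groth.Agent.GeomRedPtLib.StalkLoc

/-!
The maximal ideal of a point generates that of a point above it in a base change.
-/

set_option autoImplicit false
set_option backward.isDefEq.respectTransparency false
universe u

open CategoryTheory CategoryTheory.Limits AlgebraicGeometry TensorProduct

attribute [local instance] Curv2.stalkAlgebra

namespace Groth.Agent.GeomRedPtLib

/-- The ideal generated in the local ring at `v` by the maximal ideal at its image. -/
noncomputable abbrev fibreIdeal {X Y : Scheme.{u}} (f : X ⟶ Y) (v : X) : Ideal (X.presheaf.stalk v) :=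
  (IsLocalRing.maximalIdeal (Y.presheaf.stalk (f v))).map (f.stalkMap v).hom

theorem fibreIdeal_congr {X Y : Scheme.{u}} {f g : X ⟶ Y} (h : f = g) (v : X) : fibreIdeal f v = fibreIdeal g v := by
  subst h; rfl

theorem fibreIdeal_comp {X Y Z : Scheme.{u}} (f : X ⟶ Y) (g : Y ⟶ Z) (v : X) :
    fibreIdeal (f ≫ g) v = (fibreIdeal g (f v)).map (f.stalkMap v).hom := by
  rw [fibreIdeal, fibreIdeal, Ideal.map_map, Scheme.Hom.stalkMap_comp]
  rfl

theorem fibreIdeal_comp_preimmersion {X Y Z : Scheme.{u}} (f : X ⟶ Y) (g : Y ⟶ Z) [IsPreimmersion g] [Flat g] (v : X) :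
    fibreIdeal (f ≫ g) v = fibreIdeal f v := by
  rw [fibreIdeal_comp]
  refine congrArg (Ideal.map _) ?_
  have hb := bijective_stalkMap_of_preimmersion g (f v)
  haveI : IsLocalHom (g.stalkMap (f v)).hom := g.toLRSHom.prop (f v)
  refine le_antisymm (IsLocalRing.map_maximalIdeal_le _) fun a ha => ?_
  obtain ⟨b, rfl⟩ := hb.2 a
  exact Ideal.mem_map_of_mem _ (fun hu => ha (hu.map _))

/-- Over an affine morphism the fibre ideal is generated by the prime downstairs. -/
theorem fibreIdeal_specMap {R S : CommRingCat.{u}} (φ : R ⟶ S) (p : Spec S) :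
    fibreIdeal (Spec.map φ) p =
      ((PrimeSpectrum.comap φ.hom p).asIdeal.map φ.hom).map (StructureSheaf.toStalk S p).hom := by
  let r := PrimeSpectrum.comap φ.hom p
  letI : Algebra R ((Spec R).presheaf.stalk r) := StructureSheaf.stalkAlgebra _ r
  haveI : IsLocalization.AtPrime ((Spec R).presheaf.stalk r) r.asIdeal := StructureSheaf.IsLocalization.to_stalk R r
  have h1 : IsLocalRing.maximalIdeal ((Spec R).presheaf.stalk r) = r.asIdeal.map (algebraMap R ((Spec R).presheaf.stalk r)) :=
    (IsLocalization.AtPrime.map_eq_maximalIdeal r.asIdeal _).symm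
  show (IsLocalRing.maximalIdeal ((Spec R).presheaf.stalk r)).map ((Spec.map φ).stalkMap p).hom = _
  rw [h1, Ideal.map_map, Ideal.map_map]
  congr 1
  exact congrArg CommRingCat.Hom.hom (stalkMap_toStalk φ p)

theorem isRadical_map_includeLeft {k A K : Type u} [Field k] [CommRing A] [Algebra k A] [IsLocalRing A] [Field K]
    [Algebra k K] [_root_.IsReduced (IsLocalRing.ResidueField A ⊗[k] K)] :
    ((IsLocalRing.maximalIdeal A).map (Algebra.TensorProduct.includeLeftRingHom (R := k) (A := A) (B := K))).IsRadical := by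
  let π : A →ₐ[k] IsLocalRing.ResidueField A := IsScalarTower.toAlgHom k A _
  have hπ : Function.Surjective π := IsLocalRing.residue_surjective
  have hker : RingHom.ker π = IsLocalRing.maximalIdeal A := Ideal.mk_ker
  have h := Algebra.TensorProduct.rTensor_ker (R := k) (C := K) π hπ
  rw [hker] at h
  show (Ideal.map (Algebra.TensorProduct.includeLeft (R := k) (S := k) (A := A) (B := K)) (IsLocalRing.maximalIdeal A)).IsRadical
  rw [← h]
  rintro z ⟨m, hm⟩
  rw [RingHom.mem_ker, map_pow] at hm
  exact RingHom.mem_ker.2 (IsNilpotent.eq_zero ⟨m, hm⟩)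

/-- A reduced zero dimensional flat fibre of local rings is a field. -/
theorem map_maximalIdeal_eq {A B : Type u} [CommRing A] [CommRing B] [IsLocalRing A] [IsLocalRing B]
    [IsNoetherianRing A] [IsNoetherianRing B] [Algebra A B] [Module.Flat A B] [IsLocalHom (algebraMap A B)]
    (hdim : ringKrullDim A = ringKrullDim B) (hrad : ((IsLocalRing.maximalIdeal A).map (algebraMap A B)).IsRadical) :
    (IsLocalRing.maximalIdeal A).map (algebraMap A B) = IsLocalRing.maximalIdeal B := by
  let m := IsLocalRing.maximalIdeal A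
  let n := IsLocalRing.maximalIdeal B
  have hcomap : n.comap (algebraMap A B) = m := (((IsLocalRing.local_hom_TFAE (algebraMap A B)).out 0 4).1 ‹IsLocalHom (algebraMap A B)›)
  haveI : n.LiesOver m := ⟨hcomap.symm⟩
  have h := Ideal.height_eq_height_add_of_liesOver_of_hasGoingDown m n
  have h1 : n.height = m.height := by
    rw [← IsLocalRing.maximalIdeal_height_eq_ringKrullDim, ← IsLocalRing.maximalIdeal_height_eq_ringKrullDim] at hdim
    exact (WithBot.coe_inj.1 hdim).symm
  have hle : m.map (algebraMap A B) ≤ n := Ideal.map_le_iff_le_comap.2 hcomap.ge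
  refine le_antisymm hle ?_
  let I := m.map (algebraMap A B)
  let N := n.map (Ideal.Quotient.mk I)
  haveI : N.IsPrime := Ideal.map_isPrime_of_surjective Ideal.Quotient.mk_surjective (by rwa [Ideal.mk_ker])
  have hN : N.height = 0 := by
    rw [h1] at h
    have hfin : m.height ≠ ⊤ := Ideal.height_ne_top (IsLocalRing.maximalIdeal.isMaximal A).ne_top
    refine ENat.add_left_injective_of_ne_top hfin (a₁ := N.height) (a₂ := 0) ?_
    show N.height + m.height = 0 + m.height
    rw [zero_add, add_comm]; exact h.symm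
  rw [← hrad.radical, Ideal.radical_eq_sInf]
  refine le_sInf fun P ⟨hIP, hP⟩ => ?_
  haveI := hP
  by_contra hnP
  have hlt : P < n := lt_of_le_not_ge (IsLocalRing.le_maximalIdeal hP.ne_top) hnP
  haveI : (P.map (Ideal.Quotient.mk I)).IsPrime :=
    Ideal.map_isPrime_of_surjective Ideal.Quotient.mk_surjective (by rwa [Ideal.mk_ker])
  have hlt' : P.map (Ideal.Quotient.mk I) < N := by
    refine lt_of_le_not_ge (Ideal.map_mono hlt.le) fun hge => hnP ?_
    have := Ideal.comap_mono (f := Ideal.Quotient.mk I) hge
    rwa [Ideal.comap_map_of_surjective' _ Ideal.Quotient.mk_surjective, Ideal.comap_map_of_surjective' _ Ideal.Quotient.mk_surjective,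
      Ideal.mk_ker, sup_eq_left.2 hIP, sup_eq_left.2 hle] at this
  haveI : N.FiniteHeight := Ideal.finiteHeight_of_isNoetherianRing N
  have := Ideal.height_strict_mono_of_isPrime hlt'
  rw [hN] at this
  simp at this

variable {k : Type u} [Field k] {X : Scheme.{u}} [X.Over (Spec (CommRingCat.of k))]

theorem fibreIdeal_eq_maximalIdeal (K : Type u) [Field K] [Algebra k K] [LocallyOfFiniteType (X ↘ Spec (CommRingCat.of k))]
    (y : Curv2.bc k X K)
    (hdim : ringKrullDim (X.presheaf.stalk (Curv2.bcFst k X K y)) = ringKrullDim ((Curv2.bc k X K).presheaf.stalk y))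
    [_root_.IsReduced (IsLocalRing.ResidueField (X.presheaf.stalk (Curv2.bcFst k X K y)) ⊗[k] K)] :
    fibreIdeal (Curv2.bcFst k X K) y = IsLocalRing.maximalIdeal _ := by
  haveI : IsLocallyNoetherian X := LocallyOfFiniteType.isLocallyNoetherian (X ↘ Spec (CommRingCat.of k))
  haveI : LocallyOfFiniteType (Curv2.bcSnd k X K) := MorphismProperty.pullback_snd _ _ inferInstance
  haveI : IsLocallyNoetherian (Curv2.bc k X K) := LocallyOfFiniteType.isLocallyNoetherian (Curv2.bcSnd k X K)
  haveI : Flat (Spec.map (CommRingCat.ofHom (algebraMap k K))) :=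
    (HasRingHomProperty.Spec_iff (P := @Flat)).2 (RingHom.flat_algebraMap_iff.2 inferInstance)
  haveI : Flat (Curv2.bcFst k X K) := MorphismProperty.pullback_fst _ _ inferInstance
  have hrad : (fibreIdeal (Curv2.bcFst k X K) y).IsRadical := by
    obtain ⟨p, hp⟩ := exists_tensorPt_eq K (Curv2.bcFst k X K y) y specializes_rfl
    let x := Curv2.bcFst k X K y
    let φ : CommRingCat.of (X.presheaf.stalk x) ⟶ CommRingCat.of (X.presheaf.stalk x ⊗[k] K) :=
      CommRingCat.ofHom Algebra.TensorProduct.includeLeftRingHom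
    have hpm : PrimeSpectrum.comap φ.hom p = IsLocalRing.closedPoint _ := by
      have h1 : Curv2.bcFst k X K (tensorPt k X K x p) = x := by rw [hp]
      rw [← Scheme.Hom.comp_apply, (isPullback_tensorPt K x).w, Scheme.Hom.comp_apply] at h1
      exact (X.fromSpecStalk x).isEmbedding.injective (h1.trans Scheme.fromSpecStalk_closedPoint.symm)
    haveI : Flat (X.fromSpecStalk x) := flat_fromSpecStalk' x
    have h2 : (fibreIdeal (Curv2.bcFst k X K) (tensorPt k X K x p)).map ((tensorPt k X K x).stalkMap p).hom =
        ((IsLocalRing.maximalIdeal (X.presheaf.stalk x)).map φ.hom).map (StructureSheaf.toStalk _ p).hom := by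
      rw [← fibreIdeal_comp, fibreIdeal_congr (isPullback_tensorPt K x).w, fibreIdeal_comp_preimmersion, fibreIdeal_specMap, hpm]
      rfl
    have hbij := bijective_stalkMap_of_preimmersion (tensorPt k X K x) p
    letI : Algebra (X.presheaf.stalk x ⊗[k] K) ((Spec (CommRingCat.of (X.presheaf.stalk x ⊗[k] K))).presheaf.stalk p) :=
      StructureSheaf.stalkAlgebra _ p
    haveI : IsLocalization.AtPrime ((Spec (CommRingCat.of (X.presheaf.stalk x ⊗[k] K))).presheaf.stalk p) p.asIdeal :=
      StructureSheaf.IsLocalization.to_stalk (CommRingCat.of (X.presheaf.stalk x ⊗[k] K)) p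
    have hR : ((fibreIdeal (Curv2.bcFst k X K) (tensorPt k X K x p)).map ((tensorPt k X K x).stalkMap p).hom).IsRadical := by
      rw [h2]
      refine Ideal.radical_eq_iff.1 ?_
      refine (IsLocalization.map_radical p.asIdeal.primeCompl _ _).symm.trans ?_
      rw [show ((IsLocalRing.maximalIdeal (X.presheaf.stalk x)).map φ.hom).radical = (IsLocalRing.maximalIdeal (X.presheaf.stalk x)).map φ.hom from
        (isRadical_map_includeLeft (k := k) (A := X.presheaf.stalk x) (K := K)).radical]
      rfl
    have hR' : (fibreIdeal (Curv2.bcFst k X K) (tensorPt k X K x p)).IsRadical := by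
      have h3 := hR.comap ((tensorPt k X K x).stalkMap p).hom
      rwa [Ideal.comap_map_of_bijective _ hbij] at h3
    rw [← hp]
    exact hR'
  algebraize [((Curv2.bcFst k X K).stalkMap y).hom]
  haveI : IsLocalHom (algebraMap (X.presheaf.stalk (Curv2.bcFst k X K y)) ((Curv2.bc k X K).presheaf.stalk y)) :=
    (Curv2.bcFst k X K).toLRSHom.prop y
  haveI : Module.Flat (X.presheaf.stalk (Curv2.bcFst k X K y)) ((Curv2.bc k X K).presheaf.stalk y) :=
    Flat.stalkMap (Curv2.bcFst k X K) y
  exact map_maximalIdeal_eq hdim hrad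

end Groth.Agent.GeomRedPtLib
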