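import Mathlib
import Groth.Agent.GeomRedPtLib.NormRegAt
import Groth.Agent.AdicFS.SepBase

/-!
Points of the smooth locus of a scheme locally of finite type over a field: formally smooth local
rings, geometrically regular local rings.
-/

set_option autoImplicit false
set_option backward.isDefEq.respectTransparency false
universe u

open CategoryTheory CategoryTheory.Limits AlgebraicGeometry TensorProduct

attribute [local instance] Curv2.stalkAlgebra

namespace Groth.Agent.GeomRedPtLib

variable {k : Type u} [Field k] {X : Scheme.{u}} [X.Over (Spec (CommRingCat.of k))]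
  [LocallyOfFinitePresentation (X ↘ Spec (CommRingCat.of k))]

theorem mem_smoothLocus_iff_formallySmooth_stalk (x : X) :
    x ∈ (X ↘ Spec (CommRingCat.of k)).smoothLocus ↔ Algebra.FormallySmooth k (X.presheaf.stalk x) := by
  let s := X ↘ Spec (CommRingCat.of k)
  obtain ⟨V, hV, hxV, -⟩ := exists_isAffineOpen_mem_and_subset (X := X) (x := x) (U := ⊤) trivial
  let ψ : k →+* Γ(Spec (CommRingCat.of k), ⊤) := (Scheme.ΓSpecIso (CommRingCat.of k)).inv.hom
  have hψ : Function.Bijective ψ := (Scheme.ΓSpecIso (CommRingCat.of k)).symm.commRingCatIsoToRingEquiv.bijective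
  show x ∈ s.smoothLocus ↔ _
  rw [Scheme.Hom.mem_smoothLocus, formallySmooth_stalkMap_iff ⊤ (isAffineOpen_top _) V hV le_top hxV]
  letI := (s.appLE ⊤ V le_top).hom.toAlgebra
  letI := ψ.toAlgebra
  letI : Algebra k Γ(X, V) := ((s.appLE ⊤ V le_top).hom.comp ψ).toAlgebra
  haveI : IsScalarTower k Γ(Spec (CommRingCat.of k), ⊤) Γ(X, V) := IsScalarTower.of_algebraMap_eq fun _ => rfl
  let q := (hV.primeIdealOf ⟨x, hxV⟩).asIdeal
  letI : Algebra Γ(X, V) (X.presheaf.stalk x) := TopCat.Presheaf.algebra_section_stalk X.presheaf ⟨x, hxV⟩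
  haveI : IsLocalization.AtPrime (X.presheaf.stalk x) q := hV.isLocalization_stalk ⟨x, hxV⟩
  haveI : IsScalarTower k Γ(X, V) (X.presheaf.stalk x) := IsScalarTower.of_algebraMap_eq fun c => by
    show X.presheaf.germ ⊤ x trivial (s.appTop (ψ c)) = X.presheaf.germ V x hxV (s.appLE ⊤ V le_top (ψ c))
    rw [show s.appLE ⊤ V le_top = s.appTop ≫ X.presheaf.map (homOfLE le_top).op from rfl]
    exact (TopCat.Presheaf.germ_res_apply X.presheaf (homOfLE le_top) x hxV _).symm
  haveI : Algebra.FormallyUnramified k Γ(Spec (CommRingCat.of k), ⊤) :=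
    Algebra.FormallyUnramified.of_surjective (Algebra.ofId _ _) hψ.2
  haveI : Algebra.FormallyEtale k Γ(Spec (CommRingCat.of k), ⊤) :=
    Algebra.FormallyEtale.of_equiv (AlgEquiv.ofBijective (Algebra.ofId k Γ(Spec (CommRingCat.of k), ⊤)) hψ)
  haveI : IsScalarTower k Γ(Spec (CommRingCat.of k), ⊤) (Localization.AtPrime q) :=
    IsScalarTower.of_algebraMap_eq fun c => by
      rw [IsScalarTower.algebraMap_apply k Γ(X, V) (Localization.AtPrime q),
        IsScalarTower.algebraMap_apply k Γ(Spec (CommRingCat.of k), ⊤) Γ(X, V),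
        ← IsScalarTower.algebraMap_apply Γ(Spec (CommRingCat.of k), ⊤) Γ(X, V) (Localization.AtPrime q)]
  let e := (IsLocalization.algEquiv q.primeCompl (X.presheaf.stalk x) (Localization.AtPrime q)).restrictScalars k
  constructor
  · intro h
    haveI : Algebra.FormallySmooth Γ(Spec (CommRingCat.of k), ⊤) (Localization.AtPrime q) := h
    haveI : Algebra.FormallySmooth k (Localization.AtPrime q) :=
      Algebra.FormallySmooth.comp k Γ(Spec (CommRingCat.of k), ⊤) (Localization.AtPrime q)
    exact Algebra.FormallySmooth.of_equiv e.symm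
  · intro h
    haveI := h
    haveI : Algebra.FormallySmooth k (Localization.AtPrime q) := Algebra.FormallySmooth.of_equiv e
    exact Algebra.FormallySmooth.of_restrictScalars k Γ(Spec (CommRingCat.of k), ⊤) (Localization.AtPrime q)

theorem formallySmooth_stalk_iff_isGeometricallyRegular (x : X) :
    Algebra.FormallySmooth k (X.presheaf.stalk x) ↔ CAlg.IsGeometricallyRegular k (X.presheaf.stalk x) := by
  let s := X ↘ Spec (CommRingCat.of k)
  obtain ⟨V, hV, hxV, -⟩ := exists_isAffineOpen_mem_and_subset (X := X) (x := x) (U := ⊤) trivial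
  let φ : k →+* Γ(X, V) := (s.appLE ⊤ V le_top).hom.comp (Scheme.ΓSpecIso (CommRingCat.of k)).inv.hom
  letI : Algebra k Γ(X, V) := φ.toAlgebra
  haveI : Algebra.FiniteType k Γ(X, V) := by
    have h1 : φ.FiniteType :=
      (LocallyOfFiniteType.finiteType_appLE (f := s) (isAffineOpen_top _) hV le_top).comp
        (RingHom.FiniteType.of_surjective _
          (Scheme.ΓSpecIso (CommRingCat.of k)).symm.commRingCatIsoToRingEquiv.surjective)
    exact h1
  let q := (hV.primeIdealOf ⟨x, hxV⟩).asIdeal
  letI : Algebra Γ(X, V) (X.presheaf.stalk x) := TopCat.Presheaf.algebra_section_stalk X.presheaf ⟨x, hxV⟩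
  haveI : IsLocalization.AtPrime (X.presheaf.stalk x) q := hV.isLocalization_stalk ⟨x, hxV⟩
  haveI : IsScalarTower k Γ(X, V) (X.presheaf.stalk x) := IsScalarTower.of_algebraMap_eq fun c => by
    show X.presheaf.germ ⊤ x trivial (s.appTop _) = X.presheaf.germ V x hxV (s.appLE ⊤ V le_top _)
    rw [show s.appLE ⊤ V le_top = s.appTop ≫ X.presheaf.map (homOfLE le_top).op from rfl]
    exact (TopCat.Presheaf.germ_res_apply X.presheaf (homOfLE le_top) x hxV _).symm
  let e := (IsLocalization.algEquiv q.primeCompl (X.presheaf.stalk x) (Localization.AtPrime q)).restrictScalars k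
  have h := (AdicFS.tfae_localization (k₀ := k) k q).out 0 3
  have h1 : Algebra.FormallySmooth k (X.presheaf.stalk x) ↔ Algebra.FormallySmooth k (Localization.AtPrime q) :=
    ⟨fun h => by haveI := h; exact Algebra.FormallySmooth.of_equiv e,
      fun h => by haveI := h; exact Algebra.FormallySmooth.of_equiv e.symm⟩
  rw [h1, h]
  exact ⟨fun h k' _ _ hf => by
      haveI := h k' hf
      exact IsRegularRing.of_ringEquiv (Algebra.TensorProduct.congr (AlgEquiv.refl (R := k) (A₁ := k')) e.symm).toRingEquiv,
    fun h k' _ _ hf => by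
      haveI := h k' hf
      exact IsRegularRing.of_ringEquiv (Algebra.TensorProduct.congr (AlgEquiv.refl (R := k) (A₁ := k')) e).toRingEquiv⟩

theorem mem_smoothLocus_iff_isGeomRegularAt (x : X) :
    x ∈ (X ↘ Spec (CommRingCat.of k)).smoothLocus ↔ Curv2.IsGeomRegularAt k X x := by
  haveI : IsLocallyNoetherian X := LocallyOfFiniteType.isLocallyNoetherian (X ↘ Spec (CommRingCat.of k))
  rw [mem_smoothLocus_iff_formallySmooth_stalk, formallySmooth_stalk_iff_isGeometricallyRegular]
  refine ⟨isGeomRegularAt_of_isGeometricallyRegular x, fun h => ?_⟩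
  refine isGeometricallyRegular_of_purelyInseparable_at x fun k' _ _ _ _ x' hx' => ?_
  exact h k' (IntermediateField.fg_top_iff.mpr inferInstance) x' hx'

end Groth.Agent.GeomRedPtLib
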